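import Groth.Prelude.Def_DiffOp
import Mathlib.RingTheory.Kaehler.Basic

/-!
# Elementary API for differential operators of finite order (`Diff16.IsDiffOpLE`)

`commutator` rules, closure of `IsDiffOpLE` under `B`-linear combinations and composition,
monotonicity in the order, the criterion on a generating set, and the criterion through the
linearisation on powers of the diagonal ideal.
-/

universe u v

namespace GrothLib.DiffOp

open scoped TensorProduct
open Diff16

variable {A B : Type u} [CommRing A] [CommRing B] [Algebra A B]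
variable {M N P : Type v} [AddCommGroup M] [Module A M] [Module B M] [IsScalarTower A B M]
  [AddCommGroup N] [Module A N] [Module B N] [IsScalarTower A B N]
  [AddCommGroup P] [Module A P] [Module B P] [IsScalarTower A B P]

theorem commutator_apply (D : M →ₗ[A] N) (b : B) (m : M) :
    commutator A B M N D b m = D (b • m) - b • D m := rfl

theorem commutator_zero (b : B) : commutator A B M N (0 : M →ₗ[A] N) b = 0 := by
  ext m; simp [commutator_apply]

theorem commutator_add (D E : M →ₗ[A] N) (b : B) :
    commutator A B M N (D + E) b = commutator A B M N D b + commutator A B M N E b := by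
  ext m; simp [commutator_apply, smul_add]; abel

theorem commutator_smul (c : B) (D : M →ₗ[A] N) (b : B) :
    commutator A B M N (c • D) b = c • commutator A B M N D b := by
  ext m; simp [commutator_apply, smul_sub, smul_comm b c]

theorem commutator_add_right (D : M →ₗ[A] N) (b c : B) :
    commutator A B M N D (b + c) = commutator A B M N D b + commutator A B M N D c := by
  ext m; simp [commutator_apply, add_smul]; abel

theorem commutator_algebraMap (D : M →ₗ[A] N) (a : A) :
    commutator A B M N D (algebraMap A B a) = 0 := by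
  ext m; simp [commutator_apply]

theorem commutator_mul (D : M →ₗ[A] N) (b c : B) :
    commutator A B M N D (b * c) =
      commutator A B M N D b ∘ₗ (LinearMap.lsmul B M c).restrictScalars A +
        b • commutator A B M N D c := by
  ext m; simp [commutator_apply, mul_smul, smul_sub]

theorem commutator_comm (D : M →ₗ[A] N) (b c : B) :
    commutator A B M N (commutator A B M N D b) c =
      commutator A B M N (commutator A B M N D c) b := by
  ext m; simp [commutator_apply, smul_sub, smul_comm b c]; abel

theorem commutator_comp (D : M →ₗ[A] N) (D' : N →ₗ[A] P) (b : B) :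
    commutator A B M P (D' ∘ₗ D) b =
      D' ∘ₗ commutator A B M N D b + commutator A B N P D' b ∘ₗ D := by
  ext m; simp [commutator_apply]

theorem isDiffOpLE_zero_iff {D : M →ₗ[A] N} :
    IsDiffOpLE A B M N 0 D ↔ ∀ (b : B) (m : M), D (b • m) = b • D m := Iff.rfl

theorem isDiffOpLE_succ_iff {n : ℕ} {D : M →ₗ[A] N} :
    IsDiffOpLE A B M N (n + 1) D ↔ ∀ b : B, IsDiffOpLE A B M N n (commutator A B M N D b) :=
  Iff.rfl

theorem isDiffOpLE_zero_iff_commutator {D : M →ₗ[A] N} :
    IsDiffOpLE A B M N 0 D ↔ ∀ b : B, commutator A B M N D b = 0 := by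
  simp [isDiffOpLE_zero_iff, LinearMap.ext_iff, commutator_apply, sub_eq_zero]

theorem isDiffOpLE_zero (n : ℕ) : IsDiffOpLE A B M N n 0 := by
  induction n with
  | zero => intro b m; simp
  | succ n ih => intro b; rw [commutator_zero]; exact ih

theorem isDiffOpLE_add {n : ℕ} {D E : M →ₗ[A] N} (hD : IsDiffOpLE A B M N n D)
    (hE : IsDiffOpLE A B M N n E) : IsDiffOpLE A B M N n (D + E) := by
  induction n generalizing D E with
  | zero => intro b m; simp [hD b m, hE b m, smul_add]
  | succ n ih => intro b; rw [commutator_add]; exact ih (hD b) (hE b)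

theorem isDiffOpLE_smul {n : ℕ} (c : B) {D : M →ₗ[A] N} (hD : IsDiffOpLE A B M N n D) :
    IsDiffOpLE A B M N n (c • D) := by
  induction n generalizing D with
  | zero => intro b m; simp [hD b m, smul_comm b c]
  | succ n ih => intro b; rw [commutator_smul]; exact ih (hD b)

theorem isDiffOpLE_neg {n : ℕ} {D : M →ₗ[A] N} (hD : IsDiffOpLE A B M N n D) :
    IsDiffOpLE A B M N n (-D) := by
  have h := isDiffOpLE_smul (-1 : B) hD
  simpa using h

theorem isDiffOpLE_sub {n : ℕ} {D E : M →ₗ[A] N} (hD : IsDiffOpLE A B M N n D)
    (hE : IsDiffOpLE A B M N n E) : IsDiffOpLE A B M N n (D - E) := by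
  simpa [sub_eq_add_neg] using isDiffOpLE_add hD (isDiffOpLE_neg hE)

theorem isDiffOpLE_sum {n : ℕ} {ι : Type*} (s : Finset ι) {D : ι → M →ₗ[A] N}
    (hD : ∀ i ∈ s, IsDiffOpLE A B M N n (D i)) : IsDiffOpLE A B M N n (∑ i ∈ s, D i) :=
  Finset.sum_induction _ (IsDiffOpLE A B M N n) (fun _ _ => isDiffOpLE_add) (isDiffOpLE_zero n) hD

theorem isDiffOpLE_succ {n : ℕ} {D : M →ₗ[A] N} (hD : IsDiffOpLE A B M N n D) :
    IsDiffOpLE A B M N (n + 1) D := by
  induction n generalizing D with
  | zero =>
    intro b
    rw [isDiffOpLE_zero_iff_commutator.1 hD b]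
    exact isDiffOpLE_zero 0
  | succ n ih => intro b; exact ih (hD b)

theorem isDiffOpLE_mono {n n' : ℕ} (h : n ≤ n') {D : M →ₗ[A] N}
    (hD : IsDiffOpLE A B M N n D) : IsDiffOpLE A B M N n' D := by
  induction n' , h using Nat.le_induction with
  | base => exact hD
  | succ k _ ih => exact isDiffOpLE_succ ih

theorem isDiffOpLE_restrictScalars (n : ℕ) (f : M →ₗ[B] N) :
    IsDiffOpLE A B M N n (f.restrictScalars A) :=
  isDiffOpLE_mono (Nat.zero_le n) fun b m => f.map_smul b m

theorem isDiffOpLE_comp {n n' : ℕ} {D : M →ₗ[A] N} {D' : N →ₗ[A] P}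
    (hD : IsDiffOpLE A B M N n D) (hD' : IsDiffOpLE A B N P n' D') :
    IsDiffOpLE A B M P (n + n') (D' ∘ₗ D) := by
  induction h : n + n' generalizing n n' D D' with
  | zero =>
    obtain ⟨rfl, rfl⟩ : n = 0 ∧ n' = 0 := by omega
    intro b m
    simp [hD b m, hD' b (D m)]
  | succ k ih =>
    intro b
    rw [commutator_comp]
    apply isDiffOpLE_add
    · rcases n with _ | n
      · rw [isDiffOpLE_zero_iff_commutator.1 hD b, LinearMap.comp_zero]
        exact isDiffOpLE_zero k
      · exact ih (hD b) hD' (by omega)
    · rcases n' with _ | n'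
      · rw [isDiffOpLE_zero_iff_commutator.1 hD' b, LinearMap.zero_comp]
        exact isDiffOpLE_zero k
      · exact ih hD (hD' b) (by omega)

/-- The set of `b` whose commutator with `D` has order at most `n` is an `A`-subalgebra. -/
def commutatorSubalgebra (n : ℕ) (D : M →ₗ[A] N) : Subalgebra A B where
  carrier := {b | IsDiffOpLE A B M N n (commutator A B M N D b)}
  mul_mem' {b c} hb hc := by
    show IsDiffOpLE A B M N n (commutator A B M N D (b * c))
    rw [commutator_mul]
    refine isDiffOpLE_add ?_ (isDiffOpLE_smul b hc)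
    have := isDiffOpLE_comp (isDiffOpLE_restrictScalars (A := A) 0 (LinearMap.lsmul B M c)) hb
    rwa [Nat.zero_add] at this
  add_mem' {b c} hb hc := by
    show IsDiffOpLE A B M N n (commutator A B M N D (b + c))
    rw [commutator_add_right]
    exact isDiffOpLE_add hb hc
  algebraMap_mem' a := by
    show IsDiffOpLE A B M N n (commutator A B M N D (algebraMap A B a))
    rw [commutator_algebraMap]
    exact isDiffOpLE_zero n

theorem isDiffOpLE_succ_of_adjoin {s : Set B} (hs : Algebra.adjoin A s = ⊤) {n : ℕ}
    {D : M →ₗ[A] N} (hD : ∀ g ∈ s, IsDiffOpLE A B M N n (commutator A B M N D g)) :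
    IsDiffOpLE A B M N (n + 1) D := by
  intro b
  have hle : Algebra.adjoin A s ≤ commutatorSubalgebra n D := Algebra.adjoin_le hD
  rw [hs] at hle
  exact hle (Algebra.mem_top (x := b))

theorem linearize_tmul (D : M →ₗ[A] N) (b : B) (m : M) :
    linearize A B M N D (b ⊗ₜ[A] m) = b • D m := rfl

theorem linearize_mul_delta {N : Type u} [AddCommGroup N] [Module A N] [Module B N]
    [IsScalarTower A B N] (D : B →ₗ[A] N) (c : B) (x : B ⊗[A] B) :
    linearize A B B N D (x * ((1 : B) ⊗ₜ[A] c - c ⊗ₜ[A] (1 : B))) =
      linearize A B B N (commutator A B B N D c) x := by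
  induction x using TensorProduct.induction_on with
  | zero => simp
  | tmul b b' =>
    simp [mul_sub, linearize_tmul, commutator_apply, smul_sub, mul_smul, mul_comm b' c]
  | add x y hx hy => simp only [add_mul, map_add, hx, hy]

theorem linearize_eq_zero_on_pow_succ_iff {N : Type u} [AddCommGroup N] [Module A N] [Module B N]
    [IsScalarTower A B N] (D : B →ₗ[A] N) (n : ℕ) :
    (∀ x ∈ KaehlerDifferential.ideal A B ^ (n + 1), linearize A B B N D x = 0) ↔
      ∀ c : B, ∀ x ∈ KaehlerDifferential.ideal A B ^ n,
        linearize A B B N (commutator A B B N D c) x = 0 := by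
  refine ⟨fun h c x hx => ?_, fun h x hx => ?_⟩
  · rw [← linearize_mul_delta]
    refine h _ ?_
    rw [pow_succ]
    exact Ideal.mul_mem_mul hx (KaehlerDifferential.one_smul_sub_smul_one_mem_ideal A c)
  · rw [pow_succ] at hx
    refine Submodule.mul_induction_on hx ?_ (fun x y hx hy => by simp [hx, hy])
    intro y hy z hz
    rw [← KaehlerDifferential.span_range_eq_ideal] at hz
    induction hz using Submodule.span_induction generalizing y with
    | mem z hz =>
      obtain ⟨c, rfl⟩ := hz
      rw [linearize_mul_delta]
      exact h c y hy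
    | zero => simp
    | add z w _ _ hz hw => rw [mul_add, map_add, hz y hy, hw y hy, add_zero]
    | smul a z _ hz =>
      rw [smul_eq_mul, ← mul_assoc]
      exact hz _ (Ideal.mul_mem_right _ _ hy)

theorem isDiffOpLE_iff_linearize {N : Type u} [AddCommGroup N] [Module A N] [Module B N]
    [IsScalarTower A B N] (n : ℕ) (D : B →ₗ[A] N) :
    IsDiffOpLE A B B N n D ↔
      ∀ x ∈ KaehlerDifferential.ideal A B ^ (n + 1), linearize A B B N D x = 0 := by
  induction n generalizing D with
  | zero =>
    rw [linearize_eq_zero_on_pow_succ_iff, isDiffOpLE_zero_iff_commutator]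
    refine ⟨fun h c x _ => ?_, fun h c => ?_⟩
    · rw [h c]
      induction x using TensorProduct.induction_on with
      | zero => simp
      | tmul b b' => simp [linearize_tmul]
      | add x y hx hy => simp [hx, hy]
    · ext b
      have := h c ((1 : B) ⊗ₜ[A] b) (by simp)
      simpa [linearize_tmul] using this
  | succ n ih =>
    rw [linearize_eq_zero_on_pow_succ_iff, isDiffOpLE_succ_iff]
    exact forall_congr' fun c => ih _

end GrothLib.DiffOp
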